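import Groth.Agent.LciCurveDefLib.Ring
import Groth.Agent.DefGlueLib.Iso

/-! Flat lifts of schemes along a nilpotent thickening of the base: gluing along an affine smooth open. -/

set_option autoImplicit false
set_option backward.isDefEq.respectTransparency false
set_option backward.isDefEq.respectTransparency.types false
set_option linter.style.haveILetI false

universe u

open CategoryTheory CategoryTheory.Limits AlgebraicGeometry TopologicalSpace

noncomputable section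

namespace Groth.Agent.LciCurveDefLib

variable {A B : CommRingCat.{u}} {g : B ⟶ A}

/-- A flat lift of a scheme over `Spec A` to `Spec B`. -/
structure IsLift (g : B ⟶ A) {Z T : Scheme.{u}} (z : Z ⟶ Spec A) (h : T ⟶ Spec B) (ψ : Z ⟶ T) : Prop where
  flat : Flat h
  isPullback : IsPullback ψ z h (Spec.map g)

theorem isClosedImmersion_specMap (hg : Function.Surjective g.hom) : IsClosedImmersion (Spec.map g) :=
  IsClosedImmersion.spec_of_surjective g hg

theorem surjective_specMap (hN : IsNilpotent (RingHom.ker g.hom)) (hg : Function.Surjective g.hom) :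
    Surjective (Spec.map g) := ⟨fun p => by
  obtain ⟨n, hn⟩ := hN
  have hle : RingHom.ker g.hom ≤ p.asIdeal := p.2.le_of_pow_le (n := n) (by rw [hn]; exact bot_le)
  have hr : p ∈ Set.range (PrimeSpectrum.comap g.hom) := by
    rw [range_comap_of_surjective _ g.hom hg]
    exact hle
  obtain ⟨q, hq⟩ := hr
  exact ⟨q, hq⟩⟩

variable {Z T : Scheme.{u}} {z : Z ⟶ Spec A} {h : T ⟶ Spec B} {ψ : Z ⟶ T}

theorem IsLift.isClosedImmersion (l : IsLift g z h ψ) (hg : Function.Surjective g.hom) : IsClosedImmersion ψ :=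
  MorphismProperty.of_isPullback (P := @IsClosedImmersion) l.isPullback.flip (isClosedImmersion_specMap hg)

theorem IsLift.surjective (l : IsLift g z h ψ) (hg : Function.Surjective g.hom) (hN : IsNilpotent (RingHom.ker g.hom)) :
    Function.Surjective ψ := by
  haveI := MorphismProperty.of_isPullback (P := @Surjective) l.isPullback.flip (surjective_specMap hN hg)
  exact Surjective.surj

theorem IsLift.isAffine (l : IsLift g z h ψ) (hg : Function.Surjective g.hom) (hN : IsNilpotent (RingHom.ker g.hom))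
    [IsAffine Z] : IsAffine T :=
  haveI := l.isClosedImmersion hg
  Thicken.isAffine ψ (l.surjective hg hN)

theorem IsLift.of_iso (l : IsLift g z h ψ) {Z' : Scheme.{u}} (e : Z' ≅ Z) : IsLift g (e.hom ≫ z) h (e.hom ≫ ψ) where
  flat := l.flat
  isPullback := l.isPullback.of_iso e.symm (Iso.refl _) (Iso.refl _) (Iso.refl _) (by simp) (by simp) (by simp) (by simp)

theorem IsLift.of_iso_target (l : IsLift g z h ψ) {T' : Scheme.{u}} (e : T ≅ T') :
    IsLift g z (e.inv ≫ h) (ψ ≫ e.hom) where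
  flat := haveI := l.flat; inferInstance
  isPullback := l.isPullback.of_iso (Iso.refl _) e (Iso.refl _) (Iso.refl _) (by simp) (by simp) (by simp) (by simp)

/-- Restriction of a lift to an open. -/
theorem IsLift.restrict (l : IsLift g z h ψ) (hg : Function.Surjective g.hom) (hN : IsNilpotent (RingHom.ker g.hom))
    {Z' : Scheme.{u}} (j : Z' ⟶ Z) [IsOpenImmersion j] :
    ∃ (T' : Scheme.{u}) (j' : T' ⟶ T) (_ : IsOpenImmersion j') (ψ' : Z' ⟶ T'),
      IsLift g (j ≫ z) (j' ≫ h) ψ' ∧ IsPullback ψ' j j' ψ := by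
  haveI := l.isClosedImmersion hg
  have hs := l.surjective hg hN
  let O : T.Opens := ⟨ψ '' (j.opensRange : Set Z), by
    have : IsHomeomorph ψ := isHomeomorph_iff_isEmbedding_surjective.mpr ⟨ψ.isClosedEmbedding.isEmbedding, hs⟩
    exact this.isOpenMap _ j.opensRange.isOpen⟩
  have hO : ψ ⁻¹ᵁ O = j.opensRange := Opens.ext (Set.preimage_image_eq _ ψ.isClosedEmbedding.injective)
  let ψ' : Z' ⟶ O.toScheme := IsOpenImmersion.lift O.ι (j ≫ ψ) (by
    rw [Scheme.Opens.range_ι, Scheme.Hom.comp_base, TopCat.coe_comp, Set.range_comp]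
    rfl)
  have hsq : IsPullback ψ' j O.ι ψ := by
    refine IsOpenImmersion.isPullback _ _ _ _ (IsOpenImmersion.lift_fac _ _ _).symm ?_
    rw [Scheme.Opens.opensRange_ι, hO]
  exact ⟨O.toScheme, O.ι, inferInstance, ψ', ⟨haveI := l.flat; inferInstance, hsq.paste_vert l.isPullback⟩, hsq⟩

/-- The ring map of an affine scheme over `Spec A`. -/
def strOf {A : CommRingCat.{u}} {Z : Scheme.{u}} (z : Z ⟶ Spec A) : A ⟶ Γ(Z, ⊤) :=
  (Scheme.ΓSpecIso A).inv ≫ z.appTop

theorem eq_isoSpec_specMap {A : CommRingCat.{u}} {Z : Scheme.{u}} [IsAffine Z] (z : Z ⟶ Spec A) :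
    z = Z.isoSpec.hom ≫ Spec.map (strOf z) := by
  rw [strOf, Spec.map_comp, ← Category.assoc, Scheme.isoSpec_hom_naturality, Category.assoc, Scheme.isoSpec_hom,
    toSpecΓ_SpecMap_ΓSpecIso_inv, Category.comp_id]

theorem exists_lift_affine [IsAffine Z] (hg : Function.Surjective g.hom) (z : Z ⟶ Spec A)
    (hz : CILib.IsSyntomicHom (strOf z).hom) :
    ∃ (T : Scheme.{u}) (h : T ⟶ Spec B) (ψ : Z ⟶ T), IsLift g z h ψ := by
  obtain ⟨R', _, str', π, hl⟩ := exists_ringLift g.hom hg (strOf z).hom hz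
  refine ⟨Spec (CommRingCat.of R'), Spec.map (CommRingCat.ofHom str'), Z.isoSpec.hom ≫ Spec.map (CommRingCat.ofHom π), ?_⟩
  have l : IsLift g (Spec.map (strOf z)) (Spec.map (CommRingCat.ofHom str')) (Spec.map (CommRingCat.ofHom π)) :=
    ⟨(HasRingHomProperty.Spec_iff (P := @Flat)).mpr hl.flat,
      isPullback_SpecMap_of_isPushout _ _ _ _ (isPushout_ringLift g.hom hl hg)⟩
  have h1 := l.of_iso Z.isoSpec
  rwa [← eq_isoSpec_specMap z] at h1

theorem IsLift.ringLift [IsAffine Z] [IsAffine T] (l : IsLift g z h ψ) (hg : Function.Surjective g.hom) :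
    IsRingLift g.hom (strOf z).hom (strOf h).hom ψ.appTop.hom := by
  refine of_isPushout g.hom ?_ ?_ hg
  · exact RingHom.Flat.comp (RingHom.Flat.of_bijective (ConcreteCategory.bijective_of_isIso (Scheme.ΓSpecIso B).inv))
      (haveI := l.flat; h.flat_appTop)
  · exact (isPushout_appTop_of_isPullback l.isPullback.flip).flip.of_iso (Scheme.ΓSpecIso _) (Iso.refl _)
      (Scheme.ΓSpecIso _) (Iso.refl _) (by simp [strOf]) (Scheme.ΓSpecIso_naturality _) (by simp) (by simp [strOf])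

/-- Two lifts of an affine scheme smooth over the base are isomorphic. -/
theorem exists_iso_lift (hg : Function.Surjective g.hom) (hN : IsNilpotent (RingHom.ker g.hom)) [IsNoetherianRing B]
    {k : Type u} [Field k] (res : A →+* k) (hres : Function.Surjective res) (hn : IsNilpotent (RingHom.ker res))
    [IsAffine Z] (hz : (strOf z).hom.Smooth) {T₁ T₂ : Scheme.{u}} {h₁ : T₁ ⟶ Spec B} {h₂ : T₂ ⟶ Spec B}
    {ψ₁ : Z ⟶ T₁} {ψ₂ : Z ⟶ T₂} (l₁ : IsLift g z h₁ ψ₁) (l₂ : IsLift g z h₂ ψ₂) :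
    ∃ θ : T₁ ≅ T₂, θ.hom ≫ h₂ = h₁ ∧ ψ₁ ≫ θ.hom = ψ₂ := by
  haveI := l₁.isAffine hg hN
  haveI := l₂.isAffine hg hN
  have r₁ := l₁.ringLift hg
  have r₂ := l₂.ringLift hg
  have hs := smooth_of_lift g.hom hg hN res hres hn r₁ hz
  obtain ⟨φ, hφ₁, hφ₂⟩ := exists_hom_of_smooth g.hom hN r₁ r₂ hs
  let u : Γ(T₁, ⊤) ⟶ Γ(T₂, ⊤) := CommRingCat.ofHom φ.toRingHom
  haveI : IsIso u := (ConcreteCategory.isIso_iff_bijective u).mpr φ.bijective
  let v : T₂ ⟶ T₁ := T₂.isoSpec.hom ≫ Spec.map u ≫ T₁.isoSpec.inv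
  have hv : v ≫ h₁ = h₂ := by
    show (T₂.isoSpec.hom ≫ Spec.map u ≫ T₁.isoSpec.inv) ≫ h₁ = h₂
    rw [eq_isoSpec_specMap h₁, eq_isoSpec_specMap h₂]
    simp only [Category.assoc, Iso.inv_hom_id_assoc]
    rw [← Spec.map_comp]
    exact congrArg (fun w => T₂.isoSpec.hom ≫ Spec.map w) (CommRingCat.hom_ext hφ₁)
  have hψ : ψ₂ ≫ v = ψ₁ := by
    show ψ₂ ≫ T₂.isoSpec.hom ≫ Spec.map u ≫ T₁.isoSpec.inv = ψ₁
    rw [← Category.assoc ψ₂, ← Scheme.isoSpec_hom_naturality, Category.assoc, ← Spec.map_comp_assoc,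
      show u ≫ ψ₂.appTop = ψ₁.appTop from CommRingCat.hom_ext hφ₂, ← Category.assoc, Scheme.isoSpec_hom_naturality,
      Category.assoc, Iso.hom_inv_id, Category.comp_id]
  exact ⟨(asIso v).symm, by rw [Iso.symm_hom, asIso_inv, IsIso.inv_comp_eq, hv],
    by rw [Iso.symm_hom, asIso_inv, IsIso.comp_inv_eq, hψ]⟩

/-- Opens admitting a flat lift. -/
def Liftable (g : B ⟶ A) {Y : Scheme.{u}} (f : Y ⟶ Spec A) (U : Y.Opens) : Prop :=
  ∃ (T : Scheme.{u}) (h : T ⟶ Spec B) (ψ : U.toScheme ⟶ T), IsLift g (U.ι ≫ f) h ψ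

variable {Y : Scheme.{u}} {f : Y ⟶ Spec A}

theorem liftable_sup (hg : Function.Surjective g.hom) (hN : IsNilpotent (RingHom.ker g.hom)) [IsNoetherianRing B]
    {k : Type u} [Field k] (res : A →+* k) (hres : Function.Surjective res) (hn : IsNilpotent (RingHom.ker res))
    {U V : Y.Opens} (hW : IsAffineOpen (U ⊓ V)) (hs : (strOf ((U ⊓ V).ι ≫ f)).hom.Smooth)
    (hU : Liftable g f U) (hV : Liftable g f V) : Liftable g f (U ⊔ V) := by
  obtain ⟨TU, hTU, ψU, lU⟩ := hU
  obtain ⟨TV, hTV, ψV, lV⟩ := hV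
  obtain ⟨T₁, j₁, _, φ₁, m₁, sq₁⟩ := lU.restrict hg hN (Y.homOfLE (inf_le_left : U ⊓ V ≤ U))
  obtain ⟨T₂, j₂, _, φ₂, m₂, sq₂⟩ := lV.restrict hg hN (Y.homOfLE (inf_le_right : U ⊓ V ≤ V))
  haveI : IsAffine (U ⊓ V).toScheme := hW
  rw [Scheme.homOfLE_ι_assoc] at m₁ m₂
  obtain ⟨θ, hθ, hθψ⟩ := exists_iso_lift hg hN res hres hn hs m₁ m₂
  let P := pushout j₁ (θ.hom ≫ j₂)
  let cU : TU ⟶ P := pushout.inl _ _
  let cV : TV ⟶ P := pushout.inr _ _
  haveI : IsOpenImmersion cU :=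
    inferInstanceAs (IsOpenImmersion (colimit.ι (span j₁ (θ.hom ≫ j₂)) WalkingSpan.left))
  haveI : IsOpenImmersion cV :=
    inferInstanceAs (IsOpenImmersion (colimit.ι (span j₁ (θ.hom ≫ j₂)) WalkingSpan.right))
  let h : P ⟶ Spec B := pushout.desc hTU hTV (by rw [Category.assoc, hθ])
  have hUh : cU ≫ h = hTU := pushout.inl_desc _ _ _
  have hVh : cV ≫ h = hTV := pushout.inr_desc _ _ _
  have hcond : j₁ ≫ cU = θ.hom ≫ j₂ ≫ cV := (pushout.condition).trans (Category.assoc _ _ _)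
  have hmeet : ∀ (p : U) (q : V), cU (ψU p) = cV (ψV q) → (p : Y) = q := fun p q hpq => by
    obtain ⟨c, fi, fj, w, hw₁, hw₂⟩ :=
      (Scheme.IsLocallyDirected.ι_eq_ι_iff (span j₁ (θ.hom ≫ j₂))).mp
        (hpq : colimit.ι (span j₁ (θ.hom ≫ j₂)) WalkingSpan.left (ψU p) =
          colimit.ι (span j₁ (θ.hom ≫ j₂)) WalkingSpan.right (ψV q))
    rcases c with _ | (_ | _)
    · obtain rfl : fi = WalkingSpan.Hom.fst := Subsingleton.elim _ _
      obtain rfl : fj = WalkingSpan.Hom.snd := Subsingleton.elim _ _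
      obtain ⟨r, hr⟩ := m₁.surjective hg hN w
      rw [← hr] at hw₁ hw₂
      have e1 : ψU (Y.homOfLE (inf_le_left : U ⊓ V ≤ U) r) = ψU p := by
        rw [← Scheme.Hom.comp_apply, ← sq₁.w, Scheme.Hom.comp_apply]
        exact hw₁
      have e2 : ψV (Y.homOfLE (inf_le_right : U ⊓ V ≤ V) r) = ψV q := by
        rw [← Scheme.Hom.comp_apply, ← sq₂.w, ← hθψ, Category.assoc, Scheme.Hom.comp_apply]
        exact hw₂
      haveI := lU.isClosedImmersion hg
      haveI := lV.isClosedImmersion hg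
      rw [← ψU.isClosedEmbedding.injective e1, ← ψV.isClosedEmbedding.injective e2, Scheme.homOfLE_apply,
        Scheme.homOfLE_apply]
    · exact nomatch (fj : WidePushoutShape.Hom (some WalkingPair.left) (some WalkingPair.right))
    · exact nomatch (fi : WidePushoutShape.Hom (some WalkingPair.right) (some WalkingPair.left))
  let jU := Y.homOfLE (le_sup_left : U ≤ U ⊔ V)
  let jV := Y.homOfLE (le_sup_right : V ≤ U ⊔ V)
  let 𝒲 : Scheme.OpenCover.{0} (U ⊔ V).toScheme := Scheme.Cover.mkOfCovers (J := Bool)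
    (fun b => cond b U.toScheme V.toScheme) (fun b => match b with | true => jU | false => jV)
    (fun y => by
      rcases y.2 with h | h
      · exact ⟨true, ⟨y.1, h⟩, Subtype.ext (Scheme.homOfLE_apply _ _)⟩
      · exact ⟨false, ⟨y.1, h⟩, Subtype.ext (Scheme.homOfLE_apply _ _)⟩)
    (fun b => by cases b <;> infer_instance)
  have hWW : IsPullback (Y.homOfLE (inf_le_left : U ⊓ V ≤ U)) (Y.homOfLE (inf_le_right : U ⊓ V ≤ V)) jU jV := by
    refine (IsOpenImmersion.isPullback (Y.homOfLE inf_le_right) (Y.homOfLE inf_le_left) jV jU ?_ ?_).flip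
    · simp [jU, jV]
    · ext y
      simp [jU, jV]
  have hag : Y.homOfLE (inf_le_left : U ⊓ V ≤ U) ≫ ψU ≫ cU = Y.homOfLE (inf_le_right : U ⊓ V ≤ V) ≫ ψV ≫ cV := by
    rw [← Category.assoc, ← sq₁.w, Category.assoc, hcond, ← Category.assoc φ₁, hθψ, ← Category.assoc,
      sq₂.w, Category.assoc]
  let ψ : (U ⊔ V).toScheme ⟶ P := 𝒲.glueMorphisms
    (fun b => match b with | true => ψU ≫ cU | false => ψV ≫ cV)
    (fun a b => by
      cases a <;> cases b
      · show pullback.fst jV jV ≫ _ = pullback.snd jV jV ≫ _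
        rw [show pullback.fst jV jV = pullback.snd jV jV from (cancel_mono jV).1 pullback.condition]
      · show pullback.fst jV jU ≫ ψV ≫ cV = pullback.snd jV jU ≫ ψU ≫ cU
        rw [← hWW.flip.isoPullback_inv_fst, ← hWW.flip.isoPullback_inv_snd, Category.assoc, Category.assoc, hag]
      · show pullback.fst jU jV ≫ ψU ≫ cU = pullback.snd jU jV ≫ ψV ≫ cV
        rw [← hWW.isoPullback_inv_fst, ← hWW.isoPullback_inv_snd, Category.assoc, Category.assoc, hag]
      · show pullback.fst jU jU ≫ _ = pullback.snd jU jU ≫ _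
        rw [show pullback.fst jU jU = pullback.snd jU jU from (cancel_mono jU).1 pullback.condition])
  have hjU : jU ≫ ψ = ψU ≫ cU := 𝒲.ι_glueMorphisms _ _ true
  have hjV : jV ≫ ψ = ψV ≫ cV := 𝒲.ι_glueMorphisms _ _ false
  have hmemU : ∀ p : U, ψ (jU p) = cU (ψU p) := fun p => by
    rw [← Scheme.Hom.comp_apply, hjU, Scheme.Hom.comp_apply]
  have hmemV : ∀ p : V, ψ (jV p) = cV (ψV p) := fun p => by
    rw [← Scheme.Hom.comp_apply, hjV, Scheme.Hom.comp_apply]
  have sqU : IsPullback ψU jU cU ψ := by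
    refine IsOpenImmersion.isPullback _ _ _ _ hjU ?_
    refine Opens.ext (Set.ext fun y => ⟨?_, ?_⟩)
    · rintro ⟨t, ht⟩
      by_cases hy : y.1 ∈ U
      · exact ⟨⟨y.1, hy⟩, Subtype.ext (Scheme.homOfLE_apply _ _)⟩
      · obtain ⟨q, rfl⟩ : ∃ q : V, jV q = y :=
          ⟨⟨y.1, (y.2 : y.1 ∈ U ∨ y.1 ∈ V).resolve_left hy⟩, Subtype.ext (Scheme.homOfLE_apply _ _)⟩
        obtain ⟨p, rfl⟩ := lU.surjective hg hN t
        exact absurd (by rw [Scheme.homOfLE_apply, ← hmeet p q (ht.trans (hmemV q))]; exact p.2) hy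
    · rintro ⟨p, rfl⟩
      exact ⟨ψU p, (hmemU p).symm⟩
  have sqV : IsPullback ψV jV cV ψ := by
    refine IsOpenImmersion.isPullback _ _ _ _ hjV ?_
    refine Opens.ext (Set.ext fun y => ⟨?_, ?_⟩)
    · rintro ⟨t, ht⟩
      by_cases hy : y.1 ∈ V
      · exact ⟨⟨y.1, hy⟩, Subtype.ext (Scheme.homOfLE_apply _ _)⟩
      · obtain ⟨p, rfl⟩ : ∃ p : U, jU p = y :=
          ⟨⟨y.1, (y.2 : y.1 ∈ U ∨ y.1 ∈ V).resolve_right hy⟩, Subtype.ext (Scheme.homOfLE_apply _ _)⟩
        obtain ⟨q, rfl⟩ := lV.surjective hg hN t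
        exact absurd (by rw [Scheme.homOfLE_apply, hmeet p q ((hmemU p).symm.trans ht.symm)]; exact q.2) hy
    · rintro ⟨p, rfl⟩
      exact ⟨ψV p, (hmemV p).symm⟩
  let 𝒰 : Scheme.OpenCover.{0} P := Scheme.Cover.mkOfCovers (J := Bool)
    (fun b => cond b TU TV) (fun b => match b with | true => cU | false => cV)
    (fun y => by
      obtain ⟨c, t, rfl⟩ := Scheme.IsLocallyDirected.ι_jointly_surjective (span j₁ (θ.hom ≫ j₂)) y
      match c with
      | none => exact ⟨true, j₁ t, by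
          show colimit.ι (span j₁ (θ.hom ≫ j₂)) WalkingSpan.left _ = _
          rw [← colimit.w (span j₁ (θ.hom ≫ j₂)) WalkingSpan.Hom.fst]
          rfl⟩
      | some .left => exact ⟨true, t, rfl⟩
      | some .right => exact ⟨false, t, rfl⟩)
    (fun b => by cases b <;> infer_instance)
  refine ⟨P, h, ψ, ⟨?_, ?_⟩⟩
  · refine (IsZariskiLocalAtSource.iff_of_openCover (P := @Flat) 𝒰).mpr fun b => ?_
    cases b
    · show Flat (cV ≫ h); rw [hVh]; exact lV.flat
    · show Flat (cU ≫ h); rw [hUh]; exact lU.flat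
  · refine Scheme.isPullback_of_openCover _ _ _ _ 𝒰 fun b => ?_
    cases b
    · have := lV.isPullback.of_iso sqV.flip.isoPullback (Iso.refl _) (Iso.refl _) (Iso.refl _)
        (fst' := pullback.snd ψ cV) (snd' := pullback.fst ψ cV ≫ (U ⊔ V).ι ≫ f) (f' := cV ≫ h) (g' := Spec.map g)
        (by simp) (by simp [jV]) (by simp [hVh]) (by simp)
      exact this
    · have := lU.isPullback.of_iso sqU.flip.isoPullback (Iso.refl _) (Iso.refl _) (Iso.refl _)
        (fst' := pullback.snd ψ cU) (snd' := pullback.fst ψ cU ≫ (U ⊔ V).ι ≫ f) (f' := cU ≫ h) (g' := Spec.map g)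
        (by simp) (by simp [jU]) (by simp [hUh]) (by simp)
      exact this

end Groth.Agent.LciCurveDefLib
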