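import Mathlib
import Groth.Agent.CILib.Scheme
import Groth.Agent.CILib.Fibre
import Groth.Agent.ASp.ThickFinType

/-! Syntomicity and smoothness of a flat deformation read off on the closed fibre. -/

set_option autoImplicit false
set_option backward.isDefEq.respectTransparency false
set_option linter.style.haveILetI false

universe u

open TensorProduct

namespace Groth.Agent.LciCurveDefLib

variable {k A R S : Type u} [Field k] [CommRing A] [CommRing R] [CommRing S] (res : A →+* k) (str : A →+* R)
  (π : R →+* S) (s : k →+* S) (hres : Function.Surjective res) (hn : IsNilpotent (RingHom.ker res))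
  (hπ : Function.Surjective π) (hcomp : π.comp str = s.comp res)
  (hker : RingHom.ker π = (RingHom.ker res).map str)

include hres hn in
theorem asIdeal_eq_ker (p : PrimeSpectrum A) : p.asIdeal = RingHom.ker res := by
  haveI : (RingHom.ker res).IsMaximal := RingHom.ker_isMaximal_of_surjective res hres
  obtain ⟨n, hn⟩ := hn
  exact (Ideal.IsMaximal.eq_of_le inferInstance p.2.ne_top
    (p.2.le_of_pow_le (n := n) (by rw [hn]; exact bot_le))).symm

include hres hn hπ hcomp hker in
theorem exists_fibre_iso (p : PrimeSpectrum A) : letI := str.toAlgebra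
    ∃ (σ : k ≃+* p.asIdeal.ResidueField) (ε : S ≃+* p.asIdeal.Fiber R),
      ∀ a, ε (s a) = algebraMap p.asIdeal.ResidueField (p.asIdeal.Fiber R) (σ a) := by
  letI := str.toAlgebra
  have hp : p.asIdeal = RingHom.ker res := asIdeal_eq_ker res hres hn p
  haveI : p.asIdeal.IsMaximal := hp ▸ RingHom.ker_isMaximal_of_surjective res hres
  let ρ : A →+* p.asIdeal.ResidueField := algebraMap A p.asIdeal.ResidueField
  have hρ : Function.Surjective ρ := fun z => by
    obtain ⟨y, rfl⟩ := (Ideal.bijective_algebraMap_quotient_residueField p.asIdeal).2 z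
    obtain ⟨a, rfl⟩ := Ideal.Quotient.mk_surjective y
    exact ⟨a, rfl⟩
  have hkρ : RingHom.ker ρ = RingHom.ker res := by
    rw [← hp]; exact Ideal.ker_algebraMap_residueField _
  let σ₀ : k →+* p.asIdeal.ResidueField := res.liftOfSurjective hres ⟨ρ, hkρ.ge⟩
  have hσ₀ : ∀ a, σ₀ (res a) = ρ a := fun a => res.liftOfRightInverse_comp_apply _ _ ⟨ρ, hkρ.ge⟩ a
  let σ : k ≃+* p.asIdeal.ResidueField := RingEquiv.ofBijective σ₀
    ⟨σ₀.injective, fun z => let ⟨a, ha⟩ := hρ z; ⟨res a, (hσ₀ a).trans ha⟩⟩
  let ι : R →+* p.asIdeal.Fiber R := (Algebra.TensorProduct.includeRight : R →ₐ[A] p.asIdeal.Fiber R).toRingHom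
  have hι : Function.Surjective ι :=
    Algebra.TensorProduct.includeRight_surjective (S := p.asIdeal.ResidueField) (T := R) hρ
  have hle : RingHom.ker π ≤ RingHom.ker ι := by
    rw [hker, Ideal.map_le_iff_le_comap]
    intro a ha
    show (Algebra.TensorProduct.includeRight : R →ₐ[A] p.asIdeal.Fiber R) (algebraMap A R a) = 0
    rw [AlgHom.commutes, IsScalarTower.algebraMap_apply A p.asIdeal.ResidueField (p.asIdeal.Fiber R),
      show algebraMap A p.asIdeal.ResidueField a = 0 from hkρ.ge ha, map_zero]
  let ε₀ : S →+* p.asIdeal.Fiber R := π.liftOfSurjective hπ ⟨ι, hle⟩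
  have hε₀ : ∀ r, ε₀ (π r) = ι r := fun r => π.liftOfRightInverse_comp_apply _ _ ⟨ι, hle⟩ r
  letI : Algebra A S := (s.comp res).toAlgebra
  let φ : p.asIdeal.ResidueField →ₐ[A] S :=
    { toRingHom := s.comp σ.symm.toRingHom
      commutes' := fun a => by
        show s (σ.symm (ρ a)) = s (res a)
        rw [← hσ₀ a]
        exact congrArg s (σ.symm_apply_apply _) }
  let ψ : R →ₐ[A] S :=
    { toRingHom := π
      commutes' := fun a => RingHom.congr_fun hcomp a }
  let back : p.asIdeal.Fiber R →ₐ[A] S := Algebra.TensorProduct.lift φ ψ fun _ _ => Commute.all _ _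
  have hb : ∀ r, back (ι r) = π r := fun r => by
    show Algebra.TensorProduct.lift φ ψ _ (1 ⊗ₜ[A] r) = _
    rw [Algebra.TensorProduct.lift_tmul, map_one, one_mul]
    rfl
  have hε : Function.Bijective ε₀ := by
    refine ⟨fun x y h => ?_, fun z => let ⟨r, hr⟩ := hι z; ⟨π r, (hε₀ r).trans hr⟩⟩
    obtain ⟨r, rfl⟩ := hπ x
    obtain ⟨r', rfl⟩ := hπ y
    rw [hε₀, hε₀] at h
    rw [← hb r, ← hb r', h]
  refine ⟨σ, RingEquiv.ofBijective ε₀ hε, fun c => ?_⟩
  obtain ⟨a, rfl⟩ := hres c
  show ε₀ (s (res a)) = algebraMap p.asIdeal.ResidueField (p.asIdeal.Fiber R) (σ₀ (res a))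
  rw [hσ₀, show s (res a) = π (str a) from (RingHom.congr_fun hcomp a).symm, hε₀]
  show (Algebra.TensorProduct.includeRight : R →ₐ[A] p.asIdeal.Fiber R) (algebraMap A R a) = _
  rw [AlgHom.commutes, IsScalarTower.algebraMap_apply A p.asIdeal.ResidueField (p.asIdeal.Fiber R)]

include hn hres hπ hcomp hker in
theorem finiteType_str (hs : s.FiniteType) : str.FiniteType := by
  refine ASp.finiteType_of_nilpotent str (J := RingHom.ker res) ?_ ?_
  · obtain ⟨n, hn⟩ := hn
    exact ⟨n, by rw [← Ideal.map_pow, hn]; exact Ideal.map_bot⟩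
  · let e := (Ideal.quotEquivOfEq hker.symm).trans (RingHom.quotientKerEquivOfSurjective hπ)
    have h : RingHom.FiniteType (e.symm.toRingHom.comp (s.comp res)) :=
      RingHom.FiniteType.comp (RingHom.FiniteType.of_surjective _ e.symm.surjective)
        (RingHom.FiniteType.comp hs (RingHom.FiniteType.of_surjective _ hres))
    convert h using 1
    rw [← hcomp]
    refine RingHom.ext fun a => e.injective ?_
    show e (Ideal.Quotient.mk _ (str a)) = e (e.symm (π (str a)))
    rw [RingEquiv.apply_symm_apply]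
    rfl

variable [IsNoetherianRing A]

include hn hres hπ hcomp hker in
theorem isSyntomic_of_fibre (hflat : str.Flat) (hS : CILib.IsSyntomicHom s) : CILib.IsSyntomicHom str := by
  have hft : s.FiniteType := RingHom.FiniteType.of_finitePresentation hS.2.1
  have hft' := finiteType_str res str π s hres hn hπ hcomp hker hft
  refine ⟨hflat, RingHom.FinitePresentation.of_finiteType.1 hft', fun p => ?_⟩
  letI := str.toAlgebra
  obtain ⟨σ, ε, h⟩ := exists_fibre_iso res str π s hres hn hπ hcomp hker p
  letI := s.toAlgebra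
  exact CILib.isLCIOver_of_semiequiv σ ε h (CILib.isLCIOver_of_isSyntomic_field hS)

include hn hres hπ hcomp hker in
theorem smooth_of_fibre (hflat : str.Flat) (hS : s.Smooth) : str.Smooth := by
  letI := str.toAlgebra
  have hft' := finiteType_str res str π s hres hn hπ hcomp hker (RingHom.FiniteType.of_finitePresentation hS.2)
  haveI : Algebra.FinitePresentation A R := RingHom.FinitePresentation.of_finiteType.1 hft'
  haveI : Module.Flat A R := hflat
  refine Algebra.Smooth.of_formallySmooth_fiber fun I _ => ?_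
  obtain ⟨σ, ε, h⟩ := exists_fibre_iso res str π s hres hn hπ hcomp hker ⟨I, inferInstance⟩
  rw [← RingHom.formallySmooth_algebraMap]
  have h2 : RingHom.FormallySmooth ((ε.toRingHom.comp s).comp σ.symm.toRingHom) :=
    RingHom.FormallySmooth.comp (RingHom.FormallySmooth.of_bijective σ.symm.bijective)
      (RingHom.FormallySmooth.comp (hS.1 : s.FormallySmooth) (RingHom.FormallySmooth.of_bijective ε.bijective))
  convert h2 using 1
  refine RingHom.ext fun a => ?_
  show _ = ε (s (σ.symm a))
  rw [h, RingEquiv.apply_symm_apply]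

end Groth.Agent.LciCurveDefLib
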