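import Groth.Agent.LciCurveDefLib.Glue

/-! Lifting generically smooth syntomic families of curves along a nilpotent thickening. -/

set_option autoImplicit false
set_option backward.isDefEq.respectTransparency false
set_option backward.isDefEq.respectTransparency.types false
set_option linter.style.haveILetI false

universe u

open CategoryTheory CategoryTheory.Limits AlgebraicGeometry TopologicalSpace

noncomputable section

namespace Groth.Agent.LciCurveDefLib

section Topology

variable {α : Type u} [TopologicalSpace α] [QuasiSober α] [T0Space α] [NoetherianSpace α]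

/-- A generic point of an irreducible component. -/
def IsGen (η : α) : Prop := ∀ q : α, q ⤳ η → q = η

theorem isGen_of_mem_components {C : Set α} (hC : C ∈ irreducibleComponents α) {η : α} (h : IsGenericPoint η C) :
    IsGen η := fun q hq => by
  have hle : C ⊆ closure {q} := by
    rw [← h.def]; exact hq.closure_subset
  have : closure {q} = C := (hC.2 isIrreducible_singleton.closure hle).antisymm hle
  exact (IsGenericPoint.eq (this : IsGenericPoint q C) h)

theorem exists_isGen (p : α) : ∃ η, IsGen η ∧ η ⤳ p := by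
  let C := irreducibleComponent p
  have hC : C ∈ irreducibleComponents α := irreducibleComponent_mem_irreducibleComponents p
  obtain ⟨η, hη⟩ := QuasiSober.sober (S := C) isIrreducible_irreducibleComponent isClosed_irreducibleComponent
  exact ⟨η, isGen_of_mem_components hC hη, hη.specializes mem_irreducibleComponent⟩

theorem finite_isGen : {η : α | IsGen η}.Finite := by
  refine Set.Finite.of_finite_image (f := fun η => closure ({η} : Set α)) ?_ fun a _ b _ h =>
    (IsGenericPoint.eq (h : IsGenericPoint a (closure {b})) isGenericPoint_closure)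
  refine (NoetherianSpace.finite_irreducibleComponents (α := α)).subset ?_
  rintro _ ⟨η, hη, rfl⟩
  refine ⟨isIrreducible_singleton.closure, fun D hD hle => ?_⟩
  have hD' : IsIrreducible (closure D) := hD.closure
  obtain ⟨q, hq⟩ := QuasiSober.sober hD' isClosed_closure
  have hqη : q = η := hη q (hq.specializes (subset_closure (hle (subset_closure rfl))))
  subst hqη
  exact subset_closure.trans hq.def.ge

theorem isGen_mem_of_dense {U : Set α} (hU : IsOpen U) (hd : Dense U) {η : α} (hη : IsGen η) : η ∈ U := by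
  let G : Set α := {q | IsGen q ∧ q ≠ η}
  have hG : G.Finite := finite_isGen.subset fun q hq => hq.1
  have hcl : IsClosed (⋃ q ∈ G, closure ({q} : Set α)) := hG.isClosed_biUnion fun _ _ => isClosed_closure
  obtain ⟨p, hp, hpU⟩ := hd.inter_open_nonempty _ hcl.isOpen_compl ⟨η, by
    intro h
    simp only [Set.mem_iUnion] at h
    obtain ⟨q, ⟨-, hne⟩, hq⟩ := h
    exact hne (hη q (specializes_iff_mem_closure.mpr hq))⟩
  obtain ⟨q, hq, hqp⟩ := exists_isGen p
  have : q = η := by
    by_contra hne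
    exact hp (Set.mem_biUnion (x := q) ⟨hq, hne⟩ (specializes_iff_mem_closure.mp hqp))
  subst this
  exact hqp.mem_open hU hpU

theorem isClosed_singleton_of_not_isGen (hdim : topologicalKrullDim α ≤ 1) {p : α} (hp : ¬ IsGen p) :
    IsClosed ({p} : Set α) := by
  simp only [IsGen, not_forall] at hp
  obtain ⟨q, hqp, hne⟩ := hp
  by_contra hc
  obtain ⟨r, hr, hrp⟩ : ∃ r ∈ closure ({p} : Set α), r ≠ p := by
    by_contra hh
    push Not at hh
    exact hc (isClosed_of_closure_subset fun r hr => hh r hr)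
  let ic : α → IrreducibleCloseds α := fun a => ⟨closure {a}, isIrreducible_singleton.closure, isClosed_closure⟩
  have hlt : ∀ a b : α, a ⤳ b → a ≠ b → ic b < ic a := fun a b hab hne => by
    refine lt_of_le_of_ne hab.closure_subset fun h => hne ?_
    have h' : closure ({b} : Set α) = closure {a} := congrArg (fun s : IrreducibleCloseds α => (s : Set α)) h
    exact IsGenericPoint.eq (isGenericPoint_closure (x := a)) (h' : IsGenericPoint b (closure {a}))
  let s : LTSeries (IrreducibleCloseds α) :=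
    ((RelSeries.singleton _ (ic r)).snoc (ic p) (hlt p r (specializes_iff_mem_closure.mpr hr) hrp.symm)).snoc
      (ic q) (by simpa using hlt q p hqp hne)
  have := (Order.LTSeries.length_le_krullDim s).trans hdim
  simp [s] at this

theorem finite_of_isClosed_points {F : Set α} (hF : IsClosed F) (h : ∀ p ∈ F, IsClosed ({p} : Set α)) : F.Finite := by
  obtain ⟨S, hS, hcl, hirr, rfl⟩ := NoetherianSpace.exists_finite_set_isClosed_irreducible hF
  refine hS.sUnion fun t ht => ?_
  obtain ⟨η, hη⟩ := QuasiSober.sober (hirr t ht) (hcl t ht)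
  have := (h η ⟨t, ht, hη.mem⟩).closure_eq
  rw [← hη.def, this]
  exact Set.finite_singleton η

end Topology

variable {A B : CommRingCat.{u}} {g : B ⟶ A} {Y : Scheme.{u}} {f : Y ⟶ Spec A}

theorem smooth_strOf {V : Y.Opens} (hV : IsAffineOpen V) {U₀ : Y.Opens} (hle : V ≤ U₀) [Smooth (U₀.ι ≫ f)] :
    (strOf (V.ι ≫ f)).hom.Smooth := by
  haveI : IsAffine V.toScheme := hV
  haveI : Smooth (V.ι ≫ f) := by
    rw [← Y.homOfLE_ι hle, Category.assoc]
    exact HasRingHomProperty.comp_of_isOpenImmersion (P := @Smooth) _ _ inferInstance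
  exact RingHom.Smooth.respectsIso.2 _ (Scheme.ΓSpecIso A).symm.commRingCatIsoToRingEquiv
    (HasRingHomProperty.appTop (P := @Smooth) (V.ι ≫ f) inferInstance)

theorem syntomic_strOf (hsyn : Synt.IsSyntomicMor f) {V : Y.Opens} (hV : IsAffineOpen V) :
    CILib.IsSyntomicHom (strOf (V.ι ≫ f)).hom := by
  haveI : IsAffine V.toScheme := hV
  exact CILib.isSyntomicHom_propertyIsLocal.respectsIso.2 _ (Scheme.ΓSpecIso A).symm.commRingCatIsoToRingEquiv
    (HasRingHomProperty.appTop (P := @CILib.SyntMor) (V.ι ≫ f)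
      (HasRingHomProperty.comp_of_isOpenImmersion (P := @CILib.SyntMor) _ _ ((CILib.syntMor_iff f).mpr hsyn)))

theorem mem_basicOpen_iff_notMem {V : Y.Opens} (hV : IsAffineOpen V) (q : V) (a : Γ(Y, V)) :
    q.1 ∈ Y.basicOpen a ↔ a ∉ (hV.primeIdealOf q).asIdeal := by
  have h := SetLike.ext_iff.mp (hV.fromSpec_preimage_basicOpen a) (hV.primeIdealOf q)
  rw [Scheme.Hom.mem_preimage, hV.fromSpec_primeIdealOf] at h
  exact h

theorem exists_lift_top (hg : Function.Surjective g.hom) (hN : IsNilpotent (RingHom.ker g.hom)) [IsNoetherianRing B]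
    {k : Type u} [Field k] (res : A →+* k) (hres : Function.Surjective res) (hn : IsNilpotent (RingHom.ker res))
    [NoetherianSpace Y] (hdim : topologicalKrullDim Y ≤ 1) (hsyn : Synt.IsSyntomicMor f)
    (U₀ : Y.Opens) (hd : Dense (U₀ : Set Y)) [Smooth (U₀.ι ≫ f)] : Liftable g f ⊤ := by
  classical
  have haff : ∀ V : Y.Opens, IsAffineOpen V → Liftable g f V := fun V hV =>
    haveI : IsAffine V.toScheme := hV
    exists_lift_affine hg (V.ι ≫ f) (syntomic_strOf hsyn hV)
  obtain ⟨U, hU, hmax⟩ := (wellFounded_gt (α := Y.Opens)).has_min {U : Y.Opens | Liftable g f U}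
    ⟨⊥, haff ⊥ (isAffineOpen_bot Y)⟩
  have step : ∀ (V : Y.Opens) (p : Y), IsAffineOpen V → p ∈ V → p ∉ U → IsAffineOpen (U ⊓ V) → U ⊓ V ≤ U₀ → False :=
    fun V p hV hpV hpU hW hle => hmax _ (liftable_sup hg hN res hres hn hW (smooth_strOf hW hle) hU (haff V hV))
      (lt_of_le_of_ne le_sup_left fun h => hpU (h ▸ Or.inr hpV))
  by_contra htop
  have hne : U ≠ ⊤ := fun h => htop (h ▸ hU)
  by_cases hgen : ∃ η, IsGen η ∧ η ∉ U
  · obtain ⟨η, hη, hηU⟩ := hgen
    let G : Set Y := {q | IsGen q ∧ q ≠ η}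
    have hG : G.Finite := finite_isGen.subset fun q hq => hq.1
    let O : Y.Opens := ⟨(⋃ q ∈ G, closure ({q} : Set Y))ᶜ,
      (hG.isClosed_biUnion fun _ _ => isClosed_closure).isOpen_compl⟩
    have hηO : η ∈ O := by
      intro h
      simp only [Set.mem_iUnion] at h
      obtain ⟨q, ⟨-, hq'⟩, hq⟩ := h
      exact hq' (hη q (specializes_iff_mem_closure.mpr hq))
    obtain ⟨V, hV, hηV, hle⟩ := exists_isAffineOpen_mem_and_subset hηO
    have hbot : U ⊓ V = ⊥ := by
      refine Opens.ext (Set.eq_empty_iff_forall_notMem.mpr ?_)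
      rintro p ⟨hpU, hpV⟩
      obtain ⟨q, hq, hqp⟩ := exists_isGen p
      have hqη : q = η := by
        by_contra hh
        exact hle hpV (Set.mem_biUnion (x := q) ⟨hq, hh⟩ (specializes_iff_mem_closure.mp hqp))
      subst hqη
      exact hηU (hqp.mem_open U.isOpen hpU)
    exact step V η hV hηV hηU (hbot ▸ isAffineOpen_bot Y) (hbot ▸ bot_le)
  · push Not at hgen
    obtain ⟨p, hp⟩ : ∃ p, p ∉ U := by
      by_contra hh
      push Not at hh
      exact hne (top_unique fun q _ => hh q)
    have hclosed : ∀ q : Y, q ∉ U ∨ q ∉ U₀ → IsClosed ({q} : Set Y) := fun q hq =>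
      isClosed_singleton_of_not_isGen hdim fun hg' =>
        hq.elim (fun h => h (hgen q hg')) (fun h => h (isGen_mem_of_dense U₀.isOpen hd hg'))
    let F : Set Y := (U : Set Y)ᶜ ∪ (U₀ : Set Y)ᶜ
    have hF : F.Finite := finite_of_isClosed_points (U.isOpen.isClosed_compl.union U₀.isOpen.isClosed_compl)
      fun q hq => hclosed q hq
    have hFc : IsClosed (F \ {p}) := by
      rw [← Set.biUnion_of_singleton (F \ {p})]
      exact (hF.subset Set.diff_subset).isClosed_biUnion fun q hq => hclosed q hq.1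
    let O : Y.Opens := ⟨(F \ {p})ᶜ, hFc.isOpen_compl⟩
    obtain ⟨V, hV, hpV, hle⟩ := exists_isAffineOpen_mem_and_subset (U := O) (x := p) fun h => h.2 rfl
    let gens : Finset Y := (finite_isGen (α := Y)).toFinset.filter (· ∈ V)
    let Pf : Y → Ideal Γ(Y, V) := fun i => if h : i ∈ V then (hV.primeIdealOf ⟨i, h⟩).asIdeal else ⊤
    have hPf : ∀ i (h : i ∈ V), Pf i = (hV.primeIdealOf ⟨i, h⟩).asIdeal := fun i h => dif_pos h
    have hav : ¬ ((hV.primeIdealOf ⟨p, hpV⟩).asIdeal : Set Γ(Y, V)) ⊆
        ⋃ η ∈ (↑gens : Set Y), (Pf η : Set Γ(Y, V)) := by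
      intro h
      obtain ⟨η, hηg, hη⟩ := (Ideal.subset_union_prime p p fun i hi _ _ => by
        rw [hPf i (Finset.mem_filter.mp hi).2]
        exact (hV.primeIdealOf _).2).mp h
      obtain ⟨hηG, hηV⟩ := Finset.mem_filter.mp hηg
      rw [hPf η hηV] at hη
      have hgη : IsGen η := (finite_isGen (α := Y)).mem_toFinset.mp hηG
      have hsp : p ⤳ η := by
        have h' := (PrimeSpectrum.le_iff_specializes (hV.primeIdealOf ⟨p, hpV⟩) (hV.primeIdealOf ⟨η, hηV⟩)).mp hη
        have := h'.map hV.fromSpec.continuous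
        rwa [hV.fromSpec_primeIdealOf, hV.fromSpec_primeIdealOf] at this
      exact hp (hgη p hsp ▸ hgen η hgη)
    obtain ⟨a, hap, ha⟩ := Set.not_subset.mp hav
    have hpa : p ∉ Y.basicOpen a := fun h => (mem_basicOpen_iff_notMem hV ⟨p, hpV⟩ a).mp h hap
    have hZ : ∀ q ∈ V, q ∉ Y.basicOpen a → IsClosed ({q} : Set Y) := fun q hqV hqa =>
      isClosed_singleton_of_not_isGen hdim fun hq => ha (by
        have hmem : q ∈ gens := Finset.mem_filter.mpr ⟨(finite_isGen (α := Y)).mem_toFinset.mpr hq, hqV⟩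
        refine Set.mem_biUnion (x := q) (Finset.mem_coe.mpr hmem) ?_
        rw [SetLike.mem_coe, hPf q hqV]
        by_contra hh
        exact hqa ((mem_basicOpen_iff_notMem hV ⟨q, hqV⟩ a).mpr hh))
    let Z : Set Y := (V : Set Y) \ (Y.basicOpen a : Set Y)
    have hZfin : (Z \ {p}).Finite := by
      haveI : NoetherianSpace V.toScheme := V.ι.isOpenEmbedding.isEmbedding.isInducing.noetherianSpace
      have hfin : (V.ι ⁻¹' (Y.basicOpen a : Set Y)ᶜ).Finite := finite_of_isClosed_points
        ((Y.basicOpen a).isOpen.isClosed_compl.preimage V.ι.continuous) fun q hq => by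
          have h1 := (hZ (V.ι q) q.2 hq).preimage V.ι.continuous
          rwa [← Set.image_singleton, Set.preimage_image_eq _ V.ι.isOpenEmbedding.injective] at h1
      exact (hfin.image V.ι).subset fun q hq => ⟨⟨q, hq.1.1⟩, hq.1.2, rfl⟩
    have hZc : IsClosed (Z \ {p}) := by
      rw [← Set.biUnion_of_singleton (Z \ {p})]
      exact hZfin.isClosed_biUnion fun q hq => hZ q hq.1.1 hq.1.2
    obtain ⟨V', hV', hpV', hle'⟩ := exists_isAffineOpen_mem_and_subset
      (U := V ⊓ ⟨(Z \ {p})ᶜ, hZc.isOpen_compl⟩) (x := p) ⟨hpV, fun h => h.2 rfl⟩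
    have hWeq : U ⊓ V' = Y.basicOpen (Y.presheaf.map (homOfLE (hle'.trans inf_le_left)).op a) := by
      rw [Scheme.basicOpen_res]
      refine Opens.ext (Set.ext fun q => ⟨?_, ?_⟩)
      · rintro ⟨hqU, hqV'⟩
        refine ⟨hqV', ?_⟩
        by_contra hqa
        exact (hle' hqV').2 ⟨⟨(hle' hqV').1, hqa⟩, fun h => hp (h ▸ hqU)⟩
      · rintro ⟨hqV', hqa⟩
        refine ⟨?_, hqV'⟩
        by_contra hqU
        exact hle (hle' hqV').1 ⟨Or.inl hqU, fun h => hpa (h ▸ hqa)⟩
    refine step V' p hV' hpV' hp (hWeq ▸ hV'.basicOpen _) ?_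
    rintro q ⟨hqU, hqV'⟩
    by_contra hq0
    exact hle (hle' hqV').1 ⟨Or.inr hq0, fun h => hp (h ▸ hqU)⟩

end Groth.Agent.LciCurveDefLib
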