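import Groth.Agent.LciCurveDefLib.Local
import Groth.Agent.DefSchLib.Affine
import Groth.Agent.SyntLiftLib.Main

/-! Lifts of rings along a surjection with nilpotent kernel: existence, smoothness, uniqueness. -/

set_option autoImplicit false
set_option backward.isDefEq.respectTransparency false
set_option linter.style.haveILetI false

universe u

open TensorProduct

namespace Groth.Agent.LciCurveDefLib

variable {k A B R R₁ R₂ : Type u} [Field k] [CommRing A] [CommRing B] [CommRing R] [CommRing R₁] [CommRing R₂]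
  (g : B →+* A) (hg : Function.Surjective g) (hN : IsNilpotent (RingHom.ker g))

/-- A lift of the `A`-ring `R` over `B`. -/
structure IsRingLift (str : A →+* R) (str₁ : B →+* R₁) (π : R₁ →+* R) : Prop where
  flat : str₁.Flat
  surj : Function.Surjective π
  comp : π.comp str₁ = str.comp g
  ker : RingHom.ker π = (RingHom.ker g).map str₁

include hg in
theorem exists_ringLift (str : A →+* R) (h : CILib.IsSyntomicHom str) :
    ∃ (R' : Type u) (_ : CommRing R') (str' : B →+* R') (π : R' →+* R), IsRingLift g str str' π := by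
  let e : (B ⧸ RingHom.ker g) ≃+* A := RingHom.quotientKerEquivOfSurjective hg
  have h1 : CILib.IsSyntomicHom (str.comp e.toRingHom) :=
    CILib.isSyntomicHom_propertyIsLocal.respectsIso.2 str e h
  letI : Algebra (B ⧸ RingHom.ker g) R := (str.comp e.toRingHom).toAlgebra
  letI : Algebra B R := (str.comp g).toAlgebra
  haveI : IsScalarTower B (B ⧸ RingHom.ker g) R := .of_algebraMap_eq fun _ => rfl
  obtain ⟨R', _, _, hR', ⟨φ⟩⟩ := SyntLiftLib.exists_syntomic_lift (A := B) (I := RingHom.ker g) (C := R) h1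
  refine ⟨R', inferInstance, algebraMap B R', φ.toRingEquiv.toRingHom.comp (Ideal.Quotient.mk _),
    RingHom.flat_algebraMap_iff.mpr hR'.1, φ.surjective.comp Ideal.Quotient.mk_surjective,
    RingHom.ext fun b => φ.commutes b, ?_⟩
  rw [RingHom.ker_comp_of_injective _ φ.injective, Ideal.mk_ker]

theorem isPushout_ringLift {str : A →+* R} {str₁ : B →+* R₁} {π : R₁ →+* R} (h : IsRingLift g str str₁ π)
    (hg : Function.Surjective g) :
    CategoryTheory.IsPushout (CommRingCat.ofHom str₁) (CommRingCat.ofHom g) (CommRingCat.ofHom π) (CommRingCat.ofHom str) :=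
  DefSchLib.isPushout_of_surjective (CommRingCat.hom_ext h.comp) hg h.surj h.ker

theorem of_isPushout {str : A →+* R} {str₁ : B →+* R₁} {π : R₁ →+* R} (hf : str₁.Flat)
    (h : CategoryTheory.IsPushout (CommRingCat.ofHom str₁) (CommRingCat.ofHom g) (CommRingCat.ofHom π)
      (CommRingCat.ofHom str)) (hg : Function.Surjective g) : IsRingLift g str str₁ π where
  flat := hf
  surj := (DefSchLib.surjective_ker_of_isPushout h hg).1
  comp := congrArg CommRingCat.Hom.hom h.w
  ker := (DefSchLib.surjective_ker_of_isPushout h hg).2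

variable (res : A →+* k) (hres : Function.Surjective res) (hn : IsNilpotent (RingHom.ker res)) [IsNoetherianRing B]

include hg hN hres hn in
theorem smooth_of_lift {str : A →+* R} {str₁ : B →+* R₁} {π : R₁ →+* R} (h : IsRingLift g str str₁ π)
    (hs : str.Smooth) : str₁.Smooth := by
  letI := str.toAlgebra
  haveI : Algebra.Smooth A R := hs
  let K := (RingHom.ker res).map str
  let s : k →+* R ⧸ K := res.liftOfSurjective hres ⟨(Ideal.Quotient.mk K).comp str, fun a ha =>
    Ideal.Quotient.eq_zero_iff_mem.mpr (Ideal.mem_map_of_mem str ha)⟩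
  have hcomp : (Ideal.Quotient.mk K).comp str = s.comp res := RingHom.ext fun a =>
    (res.liftOfRightInverse_comp_apply _ (Function.surjInv_eq hres) ⟨(Ideal.Quotient.mk K).comp str, fun a ha =>
      Ideal.Quotient.eq_zero_iff_mem.mpr (Ideal.mem_map_of_mem str ha)⟩ a).symm
  have hp : (RingHom.ker res).IsPrime := RingHom.ker_isPrime res
  obtain ⟨σ, ε, hσε⟩ := exists_fibre_iso res str (Ideal.Quotient.mk K) s hres hn Ideal.Quotient.mk_surjective hcomp
    Ideal.mk_ker ⟨RingHom.ker res, hp⟩
  have hs' : s.Smooth := by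
    have h1 : (algebraMap (RingHom.ker res).ResidueField ((RingHom.ker res).Fiber R)).Smooth :=
      RingHom.smooth_algebraMap.mpr inferInstance
    have h2 := RingHom.Smooth.respectsIso.1 _ ε.symm (RingHom.Smooth.respectsIso.2 _ σ h1)
    convert h2 using 1
    refine RingHom.ext fun a => ?_
    show s a = ε.symm (algebraMap (RingHom.ker res).ResidueField ((RingHom.ker res).Fiber R) (σ a))
    rw [← hσε]
    exact (ε.symm_apply_apply _).symm
  have hker' : RingHom.ker (res.comp g) = (RingHom.ker res).comap g := (RingHom.comap_ker _ _).symm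
  refine smooth_of_fibre (res.comp g) str₁ ((Ideal.Quotient.mk K).comp π) s (hres.comp hg) ?_
    (Ideal.Quotient.mk_surjective.comp h.surj) ?_ ?_ h.flat hs'
  · obtain ⟨n, hn⟩ := hn
    obtain ⟨m, hm⟩ := hN
    refine ⟨n * m, le_bot_iff.mp ?_⟩
    rw [pow_mul, hker', ← Ideal.zero_eq_bot, ← hm]
    refine pow_le_pow_left' ((Ideal.le_comap_pow g n).trans ?_) m
    rw [hn]
    exact le_rfl
  · rw [RingHom.comp_assoc, h.comp, ← RingHom.comp_assoc, hcomp, RingHom.comp_assoc]
  · rw [← RingHom.comap_ker, Ideal.mk_ker, hker']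
    refine le_antisymm (fun x hx => ?_) ?_
    · have hK : (((RingHom.ker res).comap g).map str₁).map π = K := by
        rw [Ideal.map_map, h.comp, ← Ideal.map_map, Ideal.map_comap_of_surjective g hg]
      rw [Ideal.mem_comap, ← hK, Ideal.mem_map_iff_of_surjective π h.surj] at hx
      obtain ⟨y, hy, hyx⟩ := hx
      have h1 : x - y ∈ (RingHom.ker g).map str₁ := by
        rw [← h.ker, RingHom.mem_ker, map_sub, hyx, sub_self]
      have h2 := add_mem hy (Ideal.map_mono (f := str₁) (Ideal.ker_le_comap g) h1)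
      rwa [add_sub_cancel] at h2
    · rw [Ideal.map_le_iff_le_comap]
      intro b hb
      rw [Ideal.mem_comap, Ideal.mem_comap, show π (str₁ b) = str (g b) from RingHom.congr_fun h.comp b]
      exact Ideal.mem_map_of_mem str hb

omit [IsNoetherianRing B] in
include hN in
theorem exists_hom_of_smooth {str : A →+* R} {str₁ : B →+* R₁} {π₁ : R₁ →+* R} {str₂ : B →+* R₂} {π₂ : R₂ →+* R}
    (h₁ : IsRingLift g str str₁ π₁) (h₂ : IsRingLift g str str₂ π₂) (hs : str₁.Smooth) :
    ∃ φ : R₁ ≃+* R₂, φ.toRingHom.comp str₁ = str₂ ∧ π₂.comp φ.toRingHom = π₁ := by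
  letI := str₁.toAlgebra
  letI := str₂.toAlgebra
  letI : Algebra B R := (str.comp g).toAlgebra
  haveI : Algebra.Smooth B R₁ := hs
  haveI : Module.Flat B R₂ := h₂.flat
  let p₁ : R₁ →ₐ[B] R := { toRingHom := π₁, commutes' := RingHom.congr_fun h₁.comp }
  let p₂ : R₂ →ₐ[B] R := { toRingHom := π₂, commutes' := RingHom.congr_fun h₂.comp }
  obtain ⟨n, hn⟩ := hN
  have hk2 : IsNilpotent (RingHom.ker p₂) := ⟨n, by
    show (RingHom.ker π₂) ^ n = 0
    rw [h₂.ker, ← Ideal.map_pow, hn]
    exact Ideal.map_bot⟩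
  obtain ⟨φ, hφ⟩ : ∃ φ : R₁ →ₐ[B] R₂, p₂.comp φ = p₁ :=
    ⟨_, Algebra.FormallySmooth.comp_liftOfSurjective p₁ p₂ h₂.surj hk2⟩
  have hφ' : ∀ x, π₂ (φ x) = π₁ x := fun x => AlgHom.congr_fun hφ x
  have step : ∀ (m : ℕ) (y : R₂), ∃ x, φ x - y ∈ ((RingHom.ker g) ^ m).map str₂ := by
    intro m
    induction m with
    | zero => exact fun y => ⟨0, by rw [pow_zero, Ideal.one_eq_top, Ideal.map_top]; trivial⟩
    | succ m ih =>
      intro y
      obtain ⟨x, hx⟩ := ih y
      suffices ∀ z ∈ ((RingHom.ker g) ^ m).map str₂, ∃ x', φ x' - z ∈ ((RingHom.ker g) ^ (m + 1)).map str₂ by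
        obtain ⟨x', hx'⟩ := this _ hx
        refine ⟨x - x', ?_⟩
        have := neg_mem hx'
        rw [map_sub]
        convert this using 1
        ring
      intro z hz
      rw [Ideal.map] at hz
      induction hz using Submodule.span_induction with
      | mem z hz =>
        obtain ⟨b, hb, rfl⟩ := hz
        refine ⟨algebraMap B R₁ b, ?_⟩
        rw [φ.commutes]
        show str₂ b - str₂ b ∈ _
        rw [sub_self]
        exact zero_mem _
      | zero => exact ⟨0, by simp⟩
      | add z z' _ _ hz hz' =>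
        obtain ⟨x, hx⟩ := hz
        obtain ⟨x', hx'⟩ := hz'
        refine ⟨x + x', ?_⟩
        convert add_mem hx hx' using 1
        rw [map_add]; ring
      | smul r z hz' hz =>
        obtain ⟨x', hx'⟩ := hz
        obtain ⟨q, hq⟩ : ∃ q, π₁ q = π₂ r := h₁.surj _
        refine ⟨q * x', ?_⟩
        have h1 : φ q - r ∈ (RingHom.ker g).map str₂ := by
          rw [← h₂.ker, RingHom.mem_ker, map_sub, hφ', hq, sub_self]
        have h2 : (φ q - r) * z ∈ ((RingHom.ker g) ^ (m + 1)).map str₂ := by
          rw [pow_succ', Ideal.map_mul]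
          exact Ideal.mul_mem_mul h1 hz'
        convert add_mem (Ideal.mul_mem_left _ (φ q) hx') h2 using 1
        rw [map_mul, smul_eq_mul]; ring
  have hsurj : Function.Surjective φ := fun y => by
    obtain ⟨x, hx⟩ := step n y
    rw [hn, Ideal.zero_eq_bot, Ideal.map_bot, Ideal.mem_bot] at hx
    exact ⟨x, sub_eq_zero.mp hx⟩
  have hinj : Function.Injective φ := by
    refine (LinearMap.ker_eq_bot (f := φ.toLinearMap)).mp (le_bot_iff.mp ?_)
    have h1 : LinearMap.ker φ.toLinearMap ≤ (RingHom.ker g) • LinearMap.ker φ.toLinearMap := by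
      rw [← LinearMap.ker_inf_smul_top_eq_smul_of_flat (RingHom.ker g) φ.toLinearMap hsurj]
      refine le_inf le_rfl fun x hx => ?_
      rw [Ideal.smul_top_eq_map]
      show x ∈ (RingHom.ker g).map str₁
      rw [← h₁.ker, RingHom.mem_ker, ← hφ', show φ x = 0 from hx, map_zero]
    have h2 : ∀ m : ℕ, LinearMap.ker φ.toLinearMap ≤ (RingHom.ker g) ^ m • LinearMap.ker φ.toLinearMap := by
      intro m
      induction m with
      | zero => simp
      | succ m ih =>
        refine ih.trans ((Submodule.smul_mono le_rfl h1).trans ?_)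
        rw [← Submodule.smul_assoc, pow_succ]
        exact le_rfl
    refine (h2 n).trans ?_
    rw [hn, Ideal.zero_eq_bot, Submodule.bot_smul]
  exact ⟨RingEquiv.ofBijective φ.toRingHom ⟨hinj, hsurj⟩, RingHom.ext φ.commutes, RingHom.ext hφ'⟩

end Groth.Agent.LciCurveDefLib
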